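import Cfsg.Agent.PiClasses.Threshold

/-!
Normal π-complements with abelian Hall subgroup from the single primes.
-/

set_option autoImplicit false

namespace CfsgLib.PiClasses

open Subgroup
open Cfsg (HasNormalPComplement pResidual)

variable {G : Type*} [Group G] [Finite G]

/-- Normal `p`-complements with abelian Sylow subgroups for all `p ∈ s` give a characteristic normal
`s`-complement and an abelian Hall `s`-subgroup. -/
theorem exists_complement_of_forall (s : Finset ℕ) (hs : ∀ r ∈ s, r.Prime)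
    (h : ∀ r ∈ s, ∀ [Fact r.Prime], HasNormalPComplement r G ∧
      ∀ P : Sylow r G, IsMulCommutative ↥(P : Subgroup G)) :
    ∃ K H : Subgroup G, K.Characteristic ∧
      (∀ r : ℕ, r.Prime → r ∣ Nat.card ↥K → r ∉ s) ∧ (∀ r : ℕ, r.Prime → r ∣ K.index → r ∈ s) ∧
      (∀ r : ℕ, r.Prime → r ∣ Nat.card ↥H → r ∈ s) ∧ (∀ r : ℕ, r.Prime → r ∈ s → ¬ r ∣ H.index) ∧
      IsMulCommutative ↥H := by
  classical
  let K : Subgroup G := ⨅ r : s, pResidual (r : ℕ) G
  have hmem : ∀ g : G, g ∈ K ↔ ∀ r ∈ s, (orderOf g).Coprime r := by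
    intro g
    simp only [K, mem_iInf, Subtype.forall]
    refine forall_congr' fun r => forall_congr' fun hr => ?_
    have := Fact.mk (hs r hr)
    exact CfsgLib.Transfer.mem_pResidual_iff (h r hr).1
  have hKc : K.Characteristic := by
    rw [characteristic_iff_comap_eq]
    intro φ
    ext g
    rw [mem_comap, hmem, hmem]
    simp only [MulEquiv.coe_toMonoidHom, MulEquiv.orderOf_eq]
  have hK1 : ∀ r : ℕ, r.Prime → r ∣ Nat.card ↥K → r ∉ s := by
    intro r hr hd hrs
    have := Fact.mk hr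
    obtain ⟨⟨x, hx⟩, hxo⟩ := exists_prime_orderOf_dvd_card' r hd
    rw [orderOf_mk] at hxo
    have := (hmem x).1 hx r hrs
    rw [hxo] at this
    exact hr.one_lt.ne' (by simpa using this)
  have hcompl : ∀ r (hr : r ∈ s), ∀ [Fact r.Prime], ∀ P : Sylow r G,
      (pResidual r G).IsComplement' (P : Subgroup G) := by
    intro r hr _ P
    exact CfsgLib.Transfer.isComplement'_of_isPGroup_quotient P
      (CfsgLib.Transfer.hasNormalPComplement_iff.1 (h r hr).1)
      CfsgLib.Transfer.isPGroup_quotient_pResidual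
  have hK2 : ∀ r : ℕ, r.Prime → r ∣ K.index → r ∈ s := by
    intro r hr hd
    have := Fact.mk hr
    obtain ⟨x, hx⟩ := exists_prime_orderOf_dvd_card' (G := G ⧸ K) r (by rwa [← index_eq_card])
    obtain ⟨x, rfl⟩ := QuotientGroup.mk'_surjective K x
    let N := s.prod (fun q => q ^ (Nat.card G).factorization q)
    have hN : x ^ N ∈ K := by
      simp only [K, mem_iInf, Subtype.forall]
      intro q hq
      have := Fact.mk (hs q hq)
      obtain ⟨P⟩ : Nonempty (Sylow q G) := Sylow.nonempty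
      have hi : (pResidual q G).index = q ^ (Nat.card G).factorization q := by
        rw [(hcompl q hq P).symm.index_eq_card, P.card_eq_multiplicity]
      have h1 := Finset.dvd_prod_of_mem (fun q => q ^ (Nat.card G).factorization q) hq
      obtain ⟨c, hc⟩ := h1
      show x ^ N ∈ _
      simp only [N, hc]
      rw [pow_mul, ← hi]
      exact pow_mem ((pResidual q G).pow_index_mem x) _
    have h2 : r ∣ N := by
      rw [← hx]
      refine orderOf_dvd_of_pow_eq_one ?_
      rw [← map_pow]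
      exact (QuotientGroup.eq_one_iff _).2 hN
    obtain ⟨q, hq, hqd⟩ := (Nat.Prime.prime hr).dvd_finsetProd_iff _ |>.1 h2
    exact (Nat.prime_dvd_prime_iff_eq hr (hs q hq)).1 (hr.dvd_of_dvd_pow hqd) ▸ hq
  have hcomm : ∀ a b : G, a * b * a⁻¹ * b⁻¹ ∈ K := by
    intro a b
    simp only [K, mem_iInf, Subtype.forall]
    intro q hq
    have := Fact.mk (hs q hq)
    obtain ⟨P⟩ : Nonempty (Sylow q G) := Sylow.nonempty
    let f := QuotientGroup.mk' (pResidual q G)
    have himg : ∀ c : G, ∃ u ∈ (P : Subgroup G), f u = f c := by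
      intro c
      obtain ⟨⟨⟨k, hk⟩, ⟨u, hu⟩⟩, hku⟩ := (hcompl q hq P).2 c
      refine ⟨u, hu, ?_⟩
      rw [← show k * u = c from hku, map_mul, (show f k = 1 from (QuotientGroup.eq_one_iff k).2 hk), one_mul]
    obtain ⟨u, hu, eu⟩ := himg a
    obtain ⟨v, hv, ev⟩ := himg b
    have hcm := CfsgLib.NilpotentCover.commute_of_isMulCommutative ((h q hq).2 P) hu hv
    refine (QuotientGroup.eq_one_iff _).1 (?_ : f (a * b * a⁻¹ * b⁻¹) = 1)
    rw [map_mul, map_mul, map_mul, map_inv, map_inv, ← eu, ← ev, ← map_mul, hcm, map_mul]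
    group
  have hKn : K.Normal := inferInstance
  have hco : (Nat.card ↥K).Coprime K.index :=
    Nat.coprime_of_dvd fun r hr h1 h2 => hK1 r hr h1 (hK2 r hr h2)
  obtain ⟨H, hH⟩ := Subgroup.exists_right_complement'_of_coprime hco
  refine ⟨K, H, hKc, hK1, hK2, ?_, ?_, ⟨⟨fun a b => ?_⟩⟩⟩
  · intro r hr hd
    exact hK2 r hr (hH.symm.index_eq_card ▸ hd)
  · intro r hr hrs hd
    exact hK1 r hr (hH.index_eq_card ▸ hd) hrs
  · have h1 : (a : G) * b * (a : G)⁻¹ * (b : G)⁻¹ ∈ K ⊓ H :=
      ⟨hcomm a b, (mul_mem (mul_mem (mul_mem a.2 b.2) (inv_mem a.2)) (inv_mem b.2) : (a : G) * b * (a : G)⁻¹ * (b : G)⁻¹ ∈ H)⟩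
    rw [hH.disjoint.eq_bot, mem_bot] at h1
    apply Subtype.ext
    show (a : G) * b = b * a
    calc (a : G) * b = (a : G) * b * (a : G)⁻¹ * (b : G)⁻¹ * (b * a) := by group
      _ = b * a := by rw [h1, one_mul]

/-- The prime-part form of the hypotheses: `k_π` small relative to `k_p`. -/
theorem lt_pclasses_of_lt {s : Finset ℕ} (hs : ∀ r ∈ s, r.Prime) {p : ℕ} (hp : p ∈ s)
    [Fact p.Prime] (P : Sylow p G) {a b : ℕ}
    (h : a * s.prod (fun r => r ^ (Nat.card G).factorization r) < b * Nat.card (Classes s G)) :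
    a * Nat.card ↥(P : Subgroup G) < b * Nat.card (PClasses p G) := by
  have h1 := card_classes_le_pclasses (G := G) hs hp
  rw [← Finset.mul_prod_erase s _ hp, ← mul_assoc, ← P.card_eq_multiplicity] at h
  refine Nat.lt_of_mul_lt_mul_right (a := (s.erase p).prod fun r => r ^ (Nat.card G).factorization r) ?_
  calc a * Nat.card ↥(P : Subgroup G) * _ < b * Nat.card (Classes s G) := h
    _ ≤ b * (Nat.card (PClasses p G) * _) := Nat.mul_le_mul_left b h1
    _ = _ := (mul_assoc _ _ _).symm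

end CfsgLib.PiClasses
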