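import Mathlib

/-!
Counting conjugacy classes of π-elements: weights over fibres, and the product bound.
-/

set_option autoImplicit false

namespace CfsgLib.PiClasses

universe u

/-- If each point carries weight at least `L` divided by the size of its fibre, the image is small. -/
theorem weighted_count {α β : Type*} [Fintype α] (f : α → β) (hf : Function.Surjective f) (L : ℕ)
    (w : α → ℕ) (h : ∀ a, L ≤ w a * Nat.card {b // f b = f a}) :
    L * Nat.card β ≤ ∑ a, w a := by
  classical
  have : Fintype β := Fintype.ofSurjective f hf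
  rw [Nat.card_eq_fintype_card, mul_comm, ← smul_eq_mul, ← Finset.card_univ, ← Finset.sum_const,
    ← Finset.sum_fiberwise Finset.univ f w]
  refine Finset.sum_le_sum fun d _ => ?_
  obtain ⟨a₀, ha₀⟩ := hf d
  have hpos : 0 < (Finset.univ.filter fun a => f a = d).card :=
    Finset.card_pos.2 ⟨a₀, Finset.mem_filter.2 ⟨Finset.mem_univ _, ha₀⟩⟩
  refine Nat.le_of_mul_le_mul_left ?_ hpos
  rw [← smul_eq_mul, ← Finset.sum_const, Finset.mul_sum]
  refine Finset.sum_le_sum fun a ha => ?_
  have hfa : f a = d := (Finset.mem_filter.1 ha).2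
  refine (h a).trans_eq ?_
  rw [mul_comm]
  congr 1
  rw [Nat.card_eq_fintype_card, Fintype.card_subtype, hfa]

/-- The conjugacy classes whose elements have order involving only primes of `s`. -/
abbrev Classes (s : Finset ℕ) (G : Type u) [Group G] : Type u :=
  {c : ConjClasses G // ∀ x ∈ c.carrier, ∀ r : ℕ, r.Prime → r ∣ orderOf x → r ∈ s}

/-- The conjugacy classes of `p`-elements, as the statements write them. -/
abbrev PClasses (p : ℕ) (G : Type u) [Group G] : Type u :=
  {c : ConjClasses G // ∀ x ∈ c.carrier, ∃ k : ℕ, orderOf x = p ^ k}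

variable {G : Type u} [Group G]

theorem orderOf_eq_of_mk_eq {x y : G} (h : ConjClasses.mk x = ConjClasses.mk y) :
    orderOf x = orderOf y := by
  obtain ⟨g, hg⟩ := isConj_iff.1 (ConjClasses.mk_eq_mk_iff_isConj.1 h)
  rw [← hg]
  exact ((MulAut.conj g).orderOf_eq x).symm

theorem orderOf_eq_of_mem_carrier {x y : G} (h : y ∈ (ConjClasses.mk x).carrier) :
    orderOf y = orderOf x :=
  orderOf_eq_of_mk_eq (ConjClasses.mem_carrier_iff_mk_eq.1 h)

theorem orderOf_mem_pow_iff [Finite G] {p : ℕ} (hp : p.Prime) (x : G) :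
    (∃ k, orderOf x = p ^ k) ↔ ∀ r : ℕ, r.Prime → r ∣ orderOf x → r ∈ ({p} : Finset ℕ) := by
  constructor
  · rintro ⟨k, hk⟩ r hr hd
    rw [hk] at hd
    exact Finset.mem_singleton.2 ((Nat.prime_dvd_prime_iff_eq hr hp).1 (hr.dvd_of_dvd_pow hd))
  · intro h
    exact ⟨_, Nat.eq_prime_pow_of_unique_prime_dvd (orderOf_pos x).ne' fun {r} hr hd =>
      Finset.mem_singleton.1 (h r hr hd)⟩

theorem card_classes_singleton [Finite G] {p : ℕ} (hp : p.Prime) :
    Nat.card (Classes {p} G) = Nat.card (PClasses p G) :=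
  Nat.card_congr (Equiv.subtypeEquivRight fun c =>
    ⟨fun h x hx => (orderOf_mem_pow_iff hp x).2 (h x hx),
      fun h x hx => (orderOf_mem_pow_iff hp x).1 (h x hx)⟩)

theorem card_classes_empty [Finite G] : Nat.card (Classes ∅ G) ≤ 1 := by
  have : Subsingleton (Classes ∅ G) := ⟨fun a b => by
    have h1 : ∀ (c : Classes ∅ G), c.1 = ConjClasses.mk 1 := fun c => by
      obtain ⟨x, hx⟩ := ConjClasses.mk_surjective c.1
      rw [← hx]
      congr 1
      refine orderOf_eq_one_iff.1 (Nat.eq_one_iff_not_exists_prime_dvd.2 fun r hr hd => ?_)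
      exact absurd (c.2 x (ConjClasses.mem_carrier_iff_mk_eq.2 hx) r hr hd) (Finset.notMem_empty r)
    exact Subtype.ext ((h1 a).trans (h1 b).symm)⟩
  exact Finite.card_le_one_iff_subsingleton.2 inferInstance

/-- Classes of `π`-elements are covered by products of a `p`-element with an element of its centralizer. -/
theorem card_classes_insert_le [Finite G] {p : ℕ} (hp : p.Prime) (s : Finset ℕ) (B : ℕ)
    (hB : ∀ x : G, (∃ k, orderOf x = p ^ k) →
      Nat.card (Classes s ↥(Subgroup.centralizer ({x} : Set G))) ≤ B) :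
    Nat.card (Classes (insert p s) G) ≤ Nat.card (PClasses p G) * B := by
  classical
  let rep : PClasses p G → G := fun d => (ConjClasses.mk_surjective d.1).choose
  have hrep : ∀ d, ConjClasses.mk (rep d) = d.1 := fun d =>
    (ConjClasses.mk_surjective d.1).choose_spec
  have hrep' : ∀ d, ∃ k, orderOf (rep d) = p ^ k := fun d =>
    d.2 _ (ConjClasses.mem_carrier_iff_mk_eq.2 (hrep d))
  let D := Σ d : PClasses p G, Classes s ↥(Subgroup.centralizer ({rep d} : Set G))
  have hco : ∀ (d : PClasses p G) (c : ↥(Subgroup.centralizer ({rep d} : Set G))),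
      (∀ r : ℕ, r.Prime → r ∣ orderOf c → r ∈ s) →
      ∀ r : ℕ, r.Prime → r ∣ orderOf (rep d * (c : G)) → r ∈ insert p s := by
    intro d c hc r hr hd
    have hcm : Commute (rep d) (c : G) :=
      (Subgroup.mem_centralizer_singleton_iff.1 c.2).symm
    rcases hr.dvd_mul.1 (hd.trans (hcm.orderOf_mul_dvd_mul_orderOf)) with h | h
    · obtain ⟨k, hk⟩ := hrep' d
      rw [hk] at h
      rw [(Nat.prime_dvd_prime_iff_eq hr hp).1 (hr.dvd_of_dvd_pow h)]
      exact Finset.mem_insert_self _ _
    · exact Finset.mem_insert_of_mem (hc r hr (by rwa [Subgroup.orderOf_coe] at h))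
  let F : D → Classes (insert p s) G := fun e =>
    ⟨ConjClasses.mk (rep e.1 * ((ConjClasses.mk_surjective e.2.1).choose : G)), fun x hx => by
      rw [orderOf_eq_of_mem_carrier hx]
      exact hco e.1 _ (e.2.2 _
        (ConjClasses.mem_carrier_iff_mk_eq.2 (ConjClasses.mk_surjective e.2.1).choose_spec))⟩
  have hF : Function.Surjective F := by
    rintro ⟨C, hC⟩
    obtain ⟨w, rfl⟩ := ConjClasses.mk_surjective C
    have hw := hC w ConjClasses.mem_carrier_mk
    obtain ⟨k, m, hm, hkm⟩ :=
      Nat.exists_eq_pow_mul_and_not_dvd (orderOf_pos w).ne' p hp.ne_one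
    have hco' : (p ^ k).Coprime m := Nat.Coprime.pow_left k (hp.coprime_iff_not_dvd.2 hm)
    let x := (w ^ m) ^ (Nat.gcdB (p ^ k) m)
    let y := (w ^ (p ^ k)) ^ (Nat.gcdA (p ^ k) m)
    have hxy : w = x * y := by
      simp only [x, y]
      rw [← zpow_natCast w (p ^ k), ← zpow_natCast w m, ← zpow_mul, ← zpow_mul, ← zpow_add,
        add_comm, ← Nat.gcd_eq_gcd_ab, hco'.gcd_eq_one, Nat.cast_one, zpow_one]
    have hx : ∃ i, orderOf x = p ^ i := by
      have h1 : orderOf x ∣ p ^ k := (orderOf_dvd_of_mem_zpowers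
        (Subgroup.zpow_mem _ (Subgroup.mem_zpowers _) _)).trans
          (orderOf_dvd_of_pow_eq_one (by rw [← pow_mul, mul_comm, ← hkm, pow_orderOf_eq_one]))
      obtain ⟨i, -, hi⟩ := (Nat.dvd_prime_pow hp).1 h1
      exact ⟨i, hi⟩
    have hy : ∀ r : ℕ, r.Prime → r ∣ orderOf y → r ∈ s := by
      intro r hr hd
      have h1 : orderOf y ∣ m := (orderOf_dvd_of_mem_zpowers
        (Subgroup.zpow_mem _ (Subgroup.mem_zpowers _) _)).trans
          (orderOf_dvd_of_pow_eq_one (by rw [← pow_mul, ← hkm, pow_orderOf_eq_one]))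
      have hrm : r ∣ m := hd.trans h1
      rcases Finset.mem_insert.1 (hw r hr (hrm.trans (hkm ▸ dvd_mul_left m _))) with h | h
      · exact absurd (h ▸ hrm) hm
      · exact h
    have hcomm : Commute x y := by
      simp only [x, y]
      exact ((Commute.refl w).pow_pow _ _).zpow_zpow _ _
    let d : PClasses p G := ⟨ConjClasses.mk x, fun z hz => by
      rw [orderOf_eq_of_mem_carrier hz]; exact hx⟩
    obtain ⟨g, hg⟩ := isConj_iff.1 (ConjClasses.mk_eq_mk_iff_isConj.1 (hrep d).symm)
    -- `hg : g * x * g⁻¹ = rep d`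
    have hmem : g * y * g⁻¹ ∈ Subgroup.centralizer ({rep d} : Set G) := by
      rw [Subgroup.mem_centralizer_singleton_iff, ← hg]
      have := hcomm.eq
      calc g * y * g⁻¹ * (g * x * g⁻¹) = g * (y * x) * g⁻¹ := by group
        _ = g * (x * y) * g⁻¹ := by rw [this]
        _ = g * x * g⁻¹ * (g * y * g⁻¹) := by group
    let c : ↥(Subgroup.centralizer ({rep d} : Set G)) := ⟨g * y * g⁻¹, hmem⟩
    let cc : Classes s ↥(Subgroup.centralizer ({rep d} : Set G)) := ⟨ConjClasses.mk c, fun z hz => by
      rw [orderOf_eq_of_mem_carrier hz]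
      intro r hr hd
      refine hy r hr ?_
      rw [← Subgroup.orderOf_coe] at hd
      rwa [show orderOf (g * y * g⁻¹) = orderOf y from (MulAut.conj g).orderOf_eq y] at hd⟩
    refine ⟨⟨d, cc⟩, Subtype.ext ?_⟩
    apply ConjClasses.mk_eq_mk_iff_isConj.2
    obtain ⟨h, hh⟩ := isConj_iff.1 (ConjClasses.mk_eq_mk_iff_isConj.1
      (ConjClasses.mk_surjective cc.1).choose_spec)
    have hh' : (h : G) * ((ConjClasses.mk_surjective cc.1).choose : G) * (h : G)⁻¹
        = g * y * g⁻¹ := congrArg Subtype.val hh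
    refine isConj_iff.2 ⟨g⁻¹ * (h : G), ?_⟩
    have hc := Subgroup.mem_centralizer_singleton_iff.1 h.2
    calc g⁻¹ * (h : G) * (rep d * ((ConjClasses.mk_surjective cc.1).choose : G)) * (g⁻¹ * (h : G))⁻¹
        = g⁻¹ * (((h : G) * rep d) * ((ConjClasses.mk_surjective cc.1).choose : G) * (h : G)⁻¹) * g := by
          group
      _ = g⁻¹ * (rep d * ((h : G) * ((ConjClasses.mk_surjective cc.1).choose : G) * (h : G)⁻¹)) * g := by
          rw [hc]; group
      _ = g⁻¹ * (rep d * (g * y * g⁻¹)) * g := by rw [hh']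
      _ = x * y := by rw [← hg]; group
      _ = w := hxy.symm
  have : Fintype (PClasses p G) := Fintype.ofFinite _
  calc Nat.card (Classes (insert p s) G) ≤ Nat.card D := Nat.card_le_card_of_surjective F hF
    _ = ∑ d, Nat.card (Classes s ↥(Subgroup.centralizer ({rep d} : Set G))) := Nat.card_sigma
    _ ≤ ∑ _d : PClasses p G, B := Finset.sum_le_sum fun d _ => hB _ (hrep' d)
    _ = Nat.card (PClasses p G) * B := by
        rw [Finset.sum_const, smul_eq_mul, Finset.card_univ, Nat.card_eq_fintype_card]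

theorem ordProj_centralizer_le [Finite G] (r : ℕ) (x : G) :
    r ^ (Nat.card ↥(Subgroup.centralizer ({x} : Set G))).factorization r
      ≤ r ^ (Nat.card G).factorization r := by
  rcases Nat.eq_zero_or_pos r with rfl | hr
  · simp
  refine Nat.pow_le_pow_right hr ?_
  exact (Nat.factorization_le_iff_dvd (Nat.card_pos).ne' (Nat.card_pos).ne').2
    (Subgroup.card_subgroup_dvd_card _) r

theorem card_pclasses_le [Finite G] {p : ℕ} (hp : p.Prime) :
    Nat.card (PClasses p G) ≤ p ^ (Nat.card G).factorization p := by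
  have := Fact.mk hp
  obtain ⟨P⟩ : Nonempty (Sylow p G) := Sylow.nonempty
  rw [← P.card_eq_multiplicity]
  refine Nat.card_le_card_of_surjective
    (fun x : ↥(P : Subgroup G) => (⟨ConjClasses.mk (x : G), fun z hz => by
      rw [orderOf_eq_of_mem_carrier hz, Subgroup.orderOf_coe]
      exact IsPGroup.iff_orderOf.1 P.isPGroup' x⟩ : PClasses p G)) ?_
  rintro ⟨C, hC⟩
  obtain ⟨w, rfl⟩ := ConjClasses.mk_surjective C
  obtain ⟨k, hk⟩ := hC w ConjClasses.mem_carrier_mk
  have hW : IsPGroup p ↥(Subgroup.zpowers w) :=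
    IsPGroup.of_card (n := k) (by rw [Nat.card_zpowers, hk])
  obtain ⟨Q, hQ⟩ := hW.exists_le_sylow
  obtain ⟨g, rfl⟩ := MulAction.exists_smul_eq G P Q
  have hw : w ∈ ((g • P : Sylow p G) : Subgroup G) := hQ (Subgroup.mem_zpowers w)
  rw [Sylow.coe_subgroup_smul] at hw
  obtain ⟨x, hx, hxw⟩ := hw
  refine ⟨⟨x, hx⟩, Subtype.ext (ConjClasses.mk_eq_mk_iff_isConj.2 (isConj_iff.2 ⟨g, ?_⟩))⟩
  exact hxw

/-- The number of classes of `π`-elements is at most the `π`-part of the order. -/
theorem card_classes_le (s : Finset ℕ) (hs : ∀ r ∈ s, r.Prime) :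
    ∀ (G : Type u) [Group G] [Finite G],
      Nat.card (Classes s G) ≤ s.prod (fun r => r ^ (Nat.card G).factorization r) := by
  induction s using Finset.induction with
  | empty => intro G _ _; simpa using card_classes_empty (G := G)
  | @insert p s hps ih =>
      intro G _ _
      have hp := hs p (Finset.mem_insert_self p s)
      have ih' := ih (fun r hr => hs r (Finset.mem_insert_of_mem hr))
      rw [Finset.prod_insert hps]
      refine (card_classes_insert_le hp s _ fun x _ => (ih' _).trans ?_).trans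
        (Nat.mul_le_mul_right _ (card_pclasses_le hp))
      exact Finset.prod_le_prod (fun r _ => Nat.zero_le _) (fun r _ => ordProj_centralizer_le r x)

/-- The bound through the classes of `p`-elements for one prime `p` of `π`. -/
theorem card_classes_le_pclasses [Finite G] {s : Finset ℕ} (hs : ∀ r ∈ s, r.Prime) {p : ℕ}
    (hp : p ∈ s) :
    Nat.card (Classes s G)
      ≤ Nat.card (PClasses p G) * (s.erase p).prod (fun r => r ^ (Nat.card G).factorization r) := by
  conv_lhs => rw [← Finset.insert_erase hp]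
  exact card_classes_insert_le (hs p hp) _ _ fun x _ =>
    (card_classes_le _ (fun r hr => hs r (Finset.mem_of_mem_erase hr)) _).trans
      (Finset.prod_le_prod (fun r _ => Nat.zero_le _) (fun r _ => ordProj_centralizer_le r x))

/-- Passing to a subgroup containing all `p`-elements does not lose classes. -/
theorem card_pclasses_le_subgroup [Finite G] {p : ℕ} (N : Subgroup G)
    (hN : ∀ x : G, (∃ k, orderOf x = p ^ k) → x ∈ N) :
    Nat.card (PClasses p G) ≤ Nat.card (PClasses p ↥N) := by
  refine Nat.card_le_card_of_surjective (fun c : PClasses p ↥N =>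
    (⟨ConjClasses.mk ((ConjClasses.mk_surjective c.1).choose : G), fun z hz => by
      rw [orderOf_eq_of_mem_carrier hz, Subgroup.orderOf_coe]
      exact c.2 _ (ConjClasses.mem_carrier_iff_mk_eq.2
        (ConjClasses.mk_surjective c.1).choose_spec)⟩ : PClasses p G)) ?_
  rintro ⟨C, hC⟩
  obtain ⟨w, rfl⟩ := ConjClasses.mk_surjective C
  have hw := hC w ConjClasses.mem_carrier_mk
  let c : PClasses p ↥N := ⟨ConjClasses.mk ⟨w, hN w hw⟩, fun z hz => by
    rw [orderOf_eq_of_mem_carrier hz, Subgroup.orderOf_mk]; exact hw⟩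
  refine ⟨c, Subtype.ext (ConjClasses.mk_eq_mk_iff_isConj.2 ?_)⟩
  obtain ⟨h, hh⟩ := isConj_iff.1 (ConjClasses.mk_eq_mk_iff_isConj.1
    (ConjClasses.mk_surjective c.1).choose_spec)
  exact isConj_iff.2 ⟨(h : G), congrArg Subtype.val hh⟩

end CfsgLib.PiClasses
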