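import Cfsg.Agent.PiClasses.Count
import Cfsg.Agent.Transfer.Frobenius
import Cfsg.Agent.Coprime.Action
import Cfsg.Agent.NilpotentCover.AbelianSylow

/-!
When the number of classes of `p`-elements is large compared with a Sylow `p`-subgroup.
-/

set_option autoImplicit false

namespace CfsgLib.PiClasses

open Subgroup
open Cfsg (HasNormalPComplement)

variable {G : Type*} [Group G] [Finite G] {p : ℕ} [hp : Fact p.Prime]

omit [Finite G] hp in
theorem relIndex_mul_card_of_le {H K : Subgroup G} (h : H ≤ K) :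
    H.relIndex K * Nat.card ↥H = Nat.card ↥K := by
  rw [relIndex, ← Nat.card_congr (subgroupOfEquivOfLe h).toEquiv, index_mul_card]

/-- Without a normal `p`-complement there is a `p`-subgroup `Q ≤ P` containing `C_P(Q)` and an element
of order prime to `p` normalizing but not centralizing it. -/
theorem exists_fusion_witness (h : ¬ HasNormalPComplement p G) :
    ∃ (P : Sylow p G) (Q : Subgroup G), Q ≤ (P : Subgroup G) ∧
      (P : Subgroup G) ⊓ centralizer (Q : Set G) ≤ Q ∧
      ∃ g ∈ normalizer (Q : Set G), (orderOf g).Coprime p ∧ g ∉ centralizer (Q : Set G) := by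
  classical
  let Bad : Subgroup G → Prop := fun Q => IsPGroup p ↥Q ∧
    ∃ g ∈ normalizer (Q : Set G), (orderOf g).Coprime p ∧ g ∉ centralizer (Q : Set G)
  have hne : ∃ Q, Bad Q := by
    by_contra hno
    push Not at hno
    refine h (CfsgLib.Transfer.hasNormalPComplement_of_local default fun Q hQ g hg hgp => ?_)
    by_contra hgc
    exact hno Q ⟨(default : Sylow p G).isPGroup'.to_le hQ, g, hg, hgp, hgc⟩
  have : Fintype (Subgroup G) := Fintype.ofFinite _
  obtain ⟨Q, hQ, hmax⟩ := Finset.exists_max_image (Finset.univ.filter fun Q => Bad Q)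
    (fun Q => Nat.card ↥Q) (by
      obtain ⟨Q, hQ⟩ := hne
      exact ⟨Q, Finset.mem_filter.2 ⟨Finset.mem_univ _, hQ⟩⟩)
  obtain ⟨-, hQp, g, hgN, hgp, hgC⟩ := Finset.mem_filter.1 hQ
  obtain ⟨P, hQP⟩ := hQp.exists_le_sylow
  let C := centralizer (Q : Set G)
  obtain ⟨T⟩ : Nonempty (Sylow p ↥C) := Sylow.nonempty
  let T' := (T : Subgroup ↥C).map C.subtype
  -- `g` normalizes `C`
  have hgC' : ∀ c ∈ C, g * c * g⁻¹ ∈ C := by
    intro c hc q hq
    have hq' : g⁻¹ * q * g ∈ Q := by
      have := (mem_normalizer_iff.1 (inv_mem hgN) q).1 hq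
      simpa using this
    have := hc _ hq'
    calc q * (g * c * g⁻¹) = g * ((g⁻¹ * q * g) * c) * g⁻¹ := by group
      _ = g * (c * (g⁻¹ * q * g)) * g⁻¹ := by rw [this]
      _ = g * c * g⁻¹ * q := by group
  let T₂ : Subgroup ↥C := (T'.map (MulAut.conj g).toMonoidHom).subgroupOf C
  have hT₂le : T'.map (MulAut.conj g).toMonoidHom ≤ C := by
    rintro _ ⟨_, ⟨c, -, rfl⟩, rfl⟩
    exact hgC' c c.2
  have hT₂card : Nat.card ↥T₂ = Nat.card ↥(T : Subgroup ↥C) := by
    rw [Nat.card_congr (subgroupOfEquivOfLe hT₂le).toEquiv,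
      card_map_of_injective (MulAut.conj g).injective, card_map_of_injective C.subtype_injective]
  obtain ⟨c, hc, hcT⟩ := CfsgLib.Coprime.exists_conj_map_sylow
    (Sylow.ofCard T₂ (by rw [hT₂card, T.card_eq_multiplicity])) T
  rw [Sylow.coe_ofCard, map_subgroupOf_eq_of_le hT₂le] at hcT
  change _ = T' at hcT
  -- `c * g` normalizes `T'` and acts on `Q` as `g`
  have hcg : c * g ∈ normalizer (T' : Set G) := by
    rw [mem_normalizer_iff]
    intro x
    have key : ∀ y, y ∈ T' ↔ (c * g) * y * (c * g)⁻¹ ∈ T' := by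
      intro y
      conv_rhs => rw [← hcT]
      rw [mem_smul_pointwise_iff_exists]
      constructor
      · intro hy
        exact ⟨g * y * g⁻¹, ⟨y, hy, rfl⟩, by simp [MulAut.smul_def]; group⟩
      · rintro ⟨_, ⟨z, hz, rfl⟩, he⟩
        simp [MulAut.smul_def, mul_assoc] at he
        exact he ▸ hz
    exact key x
  have hcgQ : c * g ∈ normalizer (Q : Set G) :=
    mul_mem (centralizer_le_normalizer _ hc) hgN
  obtain ⟨a, m, hm, hkm⟩ :=
    Nat.exists_eq_pow_mul_and_not_dvd (orderOf_pos (c * g)).ne' p hp.out.ne_one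
  let g' := (c * g) ^ (p ^ a)
  have hg'p : (orderOf g').Coprime p := by
    refine (Nat.Coprime.coprime_dvd_left ?_ (hp.out.coprime_iff_not_dvd.2 hm).symm)
    exact orderOf_dvd_of_pow_eq_one (by rw [← pow_mul, ← hkm, pow_orderOf_eq_one])
  have hpowC : ∀ n : ℕ, (c * g) ^ n * (g ^ n)⁻¹ ∈ C := by
    intro n
    induction n with
    | zero => simp
    | succ n ih =>
        have e : (c * g) ^ (n + 1) * (g ^ (n + 1))⁻¹
            = c * (g * ((c * g) ^ n * (g ^ n)⁻¹) * g⁻¹) := by
          rw [pow_succ' (c * g), pow_succ' g]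
          group
        rw [e]
        exact mul_mem hc (hgC' _ ih)
  have hg'C : g' ∉ centralizer (Q : Set G) := by
    intro hg'
    have h1 : g ^ p ^ a ∈ C := by
      have := mul_mem (inv_mem (hpowC (p ^ a))) hg'
      simpa [g', mul_assoc] using this
    obtain ⟨u, hu⟩ := exists_pow_eq_self_of_coprime (n := p ^ a) (x := g)
      (Nat.Coprime.pow_left a hgp.symm)
    exact hgC (hu ▸ pow_mem h1 u)
  have hTC : T' ≤ C := map_subtype_le _
  have hTp : IsPGroup p ↥T' := T.isPGroup'.map _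
  have hRp : IsPGroup p ↥(T' ⊔ Q) :=
    hTp.to_sup_of_normal_right' hQp (hTC.trans (centralizer_le_normalizer _))
  have hR : Bad (T' ⊔ Q) := by
    refine ⟨hRp, g', ?_, hg'p, fun hmem => hg'C fun q hq => hmem q (le_sup_right (a := T') hq)⟩
    have hN : normalizer (T' : Set G) ⊓ normalizer (Q : Set G)
        ≤ normalizer ((T' ⊔ Q : Subgroup G) : Set G) := by
      intro x hx
      rw [mem_normalizer_iff]
      intro y
      have hmap : (T' ⊔ Q).map (MulAut.conj x).toMonoidHom = T' ⊔ Q := by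
        rw [Subgroup.map_sup]
        congr 1
        · exact (mem_normalizer_iff_map_conj_eq.1 hx.1)
        · exact (mem_normalizer_iff_map_conj_eq.1 hx.2)
      constructor
      · intro hy
        rw [← hmap]
        exact ⟨y, hy, rfl⟩
      · intro hy
        rw [← hmap] at hy
        obtain ⟨z, hz, he⟩ := hy
        simp at he
        exact he ▸ hz
    exact hN ⟨pow_mem hcg _, pow_mem hcgQ _⟩
  have hTQ : T' ≤ Q := by
    have := hmax (T' ⊔ Q) (Finset.mem_filter.2 ⟨Finset.mem_univ _, hR⟩)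
    have heq : Q = T' ⊔ Q := eq_of_le_of_card_ge le_sup_right this
    exact heq.ge.trans' le_sup_left
  refine ⟨P, Q, hQP, ?_, g, hgN, hgp, hgC⟩
  intro x hx
  have hxC : x ∈ C := hx.2
  obtain ⟨i, hi⟩ := IsPGroup.iff_orderOf.1 P.isPGroup' ⟨x, hx.1⟩
  rw [Subgroup.orderOf_mk] at hi
  have hT : (T : Subgroup ↥C) ≤ center ↥C := by
    intro t ht
    rw [mem_center_iff]
    intro y
    exact Subtype.ext ((y.2 t (hTQ ⟨t, ht, rfl⟩)).symm)
  have hTn : (T : Subgroup ↥C).Normal := ⟨fun n hn z => by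
    have e : z * n = n * z := mem_center_iff.1 (hT hn) z
    rw [e, mul_inv_cancel_right]
    exact hn⟩
  have hxT : (⟨x, hxC⟩ : ↥C) ∈ (T : Subgroup ↥C) := by
    refine CfsgLib.NilpotentCover.mem_sylow_of_mem_normalizer T ⟨i, by rw [Subgroup.orderOf_mk, hi]⟩ ?_
    rw [normalizer_eq_top]
    exact mem_top _
  exact hTQ ⟨⟨x, hxC⟩, hxT, rfl⟩

/-- The class map on a Sylow subgroup. -/
def sylowClass (P : Sylow p G) (x : ↥(P : Subgroup G)) : PClasses p G :=
  ⟨ConjClasses.mk (x : G), fun z hz => by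
    rw [orderOf_eq_of_mem_carrier hz, Subgroup.orderOf_coe]
    exact IsPGroup.iff_orderOf.1 P.isPGroup' x⟩

theorem sylowClass_surjective (P : Sylow p G) : Function.Surjective (sylowClass P) := by
  rintro ⟨C, hC⟩
  obtain ⟨w, rfl⟩ := ConjClasses.mk_surjective C
  obtain ⟨k, hk⟩ := hC w ConjClasses.mem_carrier_mk
  have hW : IsPGroup p ↥(zpowers w) := IsPGroup.of_card (n := k) (by rw [Nat.card_zpowers, hk])
  obtain ⟨Q, hQ⟩ := hW.exists_le_sylow
  obtain ⟨g, rfl⟩ := MulAction.exists_smul_eq G P Q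
  have hw : w ∈ ((g • P : Sylow p G) : Subgroup G) := hQ (mem_zpowers w)
  rw [Sylow.coe_subgroup_smul] at hw
  obtain ⟨x, hx, hxw⟩ := hw
  exact ⟨⟨x, hx⟩, Subtype.ext (ConjClasses.mk_eq_mk_iff_isConj.2 (isConj_iff.2 ⟨g, hxw⟩))⟩

theorem card_pclasses_le_classes (P : Sylow p G) :
    Nat.card (PClasses p G) ≤ Nat.card (ConjClasses ↥(P : Subgroup G)) := by
  refine Nat.card_le_card_of_surjective (fun c => sylowClass P (ConjClasses.mk_surjective c).choose) ?_
  intro C
  obtain ⟨x, rfl⟩ := sylowClass_surjective P C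
  refine ⟨ConjClasses.mk x, Subtype.ext (ConjClasses.mk_eq_mk_iff_isConj.2 ?_)⟩
  exact (P : Subgroup G).subtype.map_isConj
    (ConjClasses.mk_eq_mk_iff_isConj.1 (ConjClasses.mk_surjective (ConjClasses.mk x)).choose_spec)

theorem card_pclasses_eq_classes (h : HasNormalPComplement p G) (P : Sylow p G) :
    Nat.card (PClasses p G) = Nat.card (ConjClasses ↥(P : Subgroup G)) := by
  refine le_antisymm (card_pclasses_le_classes P) ?_
  refine Nat.card_le_card_of_surjective
    (fun C => ConjClasses.mk (sylowClass_surjective P C).choose) ?_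
  intro c
  obtain ⟨x, rfl⟩ := ConjClasses.mk_surjective c
  refine ⟨sylowClass P x, ConjClasses.mk_eq_mk_iff_isConj.2 ?_⟩
  have h1 := congrArg Subtype.val (sylowClass_surjective P (sylowClass P x)).choose_spec
  obtain ⟨g, hg⟩ := isConj_iff.1 (ConjClasses.mk_eq_mk_iff_isConj.1 h1)
  obtain ⟨z, hz, he⟩ := CfsgLib.Transfer.controlsFusion_self_of_hasNormalPComplement h P
    _ (sylowClass_surjective P (sylowClass P x)).choose.2 g (hg.symm ▸ x.2)
  exact isConj_iff.2 ⟨⟨z, hz⟩, Subtype.ext (he.trans hg)⟩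

/-- A non-central element of a `p`-group has at least `p` conjugates. -/
theorem prime_le_fibre (P : Sylow p G) (x : ↥(P : Subgroup G))
    (hx : x ∉ center ↥(P : Subgroup G)) :
    p ≤ Nat.card {b // sylowClass P b = sylowClass P x} := by
  have h1 : (centralizer ({x} : Set ↥(P : Subgroup G))).index ≠ 1 := by
    rw [ne_eq, index_eq_one]
    intro htop
    exact hx (mem_center_iff.2 fun y =>
      (mem_centralizer_singleton_iff.1 (htop ▸ mem_top y : y ∈ centralizer ({x} : Set ↥(P : Subgroup G)))))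
  obtain ⟨n, hn⟩ := IsPGroup.index P.isPGroup' (centralizer ({x} : Set ↥(P : Subgroup G)))
  have hn0 : n ≠ 0 := fun e => h1 (by rw [hn, e, pow_zero])
  calc p = p ^ 1 := (pow_one p).symm
    _ ≤ p ^ n := Nat.pow_le_pow_right hp.out.pos (Nat.one_le_iff_ne_zero.2 hn0)
    _ = (ConjClasses.mk x).carrier.ncard := by
        rw [← hn, ← ConjAct.orbit_eq_carrier_conjClasses, ← MulAction.index_stabilizer,
          Subgroup.centralizer_eq_comap_stabilizer]
        exact index_comap_of_surjective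
          (f := (ConjAct.toConjAct : ↥(P : Subgroup G) ≃* ConjAct ↥(P : Subgroup G)).toMonoidHom)
          _ ConjAct.toConjAct.surjective
    _ = Nat.card (ConjClasses.mk x).carrier := (Nat.card_coe_set_eq _).symm
    _ ≤ _ := Nat.card_le_card_of_injective
        (fun b : (ConjClasses.mk x).carrier =>
          (⟨b.1, Subtype.ext (ConjClasses.mk_eq_mk_iff_isConj.2 ((P : Subgroup G).subtype.map_isConj
            (ConjClasses.mk_eq_mk_iff_isConj.1 (ConjClasses.mem_carrier_iff_mk_eq.1 b.2))))⟩ :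
              {b // sylowClass P b = sylowClass P x}))
        fun a b hab => Subtype.ext (congrArg (fun e : {b // sylowClass P b = sylowClass P x} => e.1) hab)

/-- Orbits of a `p'`-element `g` normalizing `Q ≤ P` lie in fibres. -/
theorem orbit_le_fibre (P : Sylow p G) {Q : Subgroup G} (hQP : Q ≤ (P : Subgroup G)) {g : G}
    (hgN : g ∈ normalizer (Q : Set G)) (x : ↥(P : Subgroup G)) (hxQ : (x : G) ∈ Q)
    (L : ℕ) (hL : ∀ j, 0 < j → j < L → g ^ j * (x : G) * (g ^ j)⁻¹ ≠ x) :
    L ≤ Nat.card {b // sylowClass P b = sylowClass P x} := by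
  have hmem : ∀ j : ℕ, g ^ j * (x : G) * (g ^ j)⁻¹ ∈ (P : Subgroup G) := fun j =>
    hQP ((mem_normalizer_iff.1 (pow_mem hgN j) _).1 hxQ)
  calc L = Nat.card (Fin L) := (Nat.card_fin L).symm
    _ ≤ _ := Nat.card_le_card_of_injective
      (fun j : Fin L => (⟨⟨_, hmem j⟩, Subtype.ext (ConjClasses.mk_eq_mk_iff_isConj.2
        (isConj_iff.2 ⟨g ^ (j : ℕ), rfl⟩).symm)⟩ : {b // sylowClass P b = sylowClass P x})) ?_
  intro i j hij
  have h1 : g ^ (i : ℕ) * (x : G) * (g ^ (i : ℕ))⁻¹ = g ^ (j : ℕ) * (x : G) * (g ^ (j : ℕ))⁻¹ :=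
    congrArg (fun e : {b // sylowClass P b = sylowClass P x} => ((e.1 : ↥(P : Subgroup G)) : G)) hij
  by_contra hne
  rcases lt_or_gt_of_ne (fun e => hne (Fin.ext e)) with hlt | hlt
  · refine hL ((j : ℕ) - i) (by omega) (by have := j.isLt; omega) ?_
    rw [show (j : ℕ) = i + ((j : ℕ) - i) by omega, pow_add] at h1
    have h2 := congrArg (fun z => (g ^ (i : ℕ))⁻¹ * z * g ^ (i : ℕ)) h1
    simp only [mul_inv_rev] at h2
    group at h2 ⊢
    exact h2.symm
  · refine hL ((i : ℕ) - j) (by omega) (by have := i.isLt; omega) ?_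
    rw [show (i : ℕ) = j + ((i : ℕ) - j) by omega, pow_add] at h1
    have h2 := congrArg (fun z => (g ^ (j : ℕ))⁻¹ * z * g ^ (j : ℕ)) h1
    simp only [mul_inv_rev] at h2
    group at h2 ⊢
    exact h2

theorem fixed_lt {Q : Subgroup G} (hQ : IsPGroup p ↥Q) {g : G} (hgC : g ∉ centralizer (Q : Set G)) :
    ∃ i, i ≠ 0 ∧ Nat.card ↥(Q ⊓ centralizer ({g} : Set G)) * p ^ i = Nat.card ↥Q := by
  have hDne : Q ⊓ centralizer ({g} : Set G) ≠ Q := by
    intro e
    apply hgC
    intro y hy
    exact (mem_centralizer_singleton_iff.1 ((e.ge hy).2))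
  obtain ⟨i, hi⟩ := IsPGroup.index hQ ((Q ⊓ centralizer ({g} : Set G)).subgroupOf Q)
  have hi' : (Q ⊓ centralizer ({g} : Set G)).relIndex Q = p ^ i := hi
  refine ⟨i, fun e => hDne (le_antisymm inf_le_left (relIndex_eq_one.1 (by rw [hi', e, pow_zero]))), ?_⟩
  rw [← hi', mul_comm]
  exact relIndex_mul_card_of_le inf_le_left

/-- The counting behind all thresholds: weights `L` for fixed points, `W₂` in `Q`, `W₃` outside. -/
theorem count_of_witness (P : Sylow p G) {Q : Subgroup G} (hQP : Q ≤ (P : Subgroup G))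
    (hCQ : (P : Subgroup G) ⊓ centralizer (Q : Set G) ≤ Q) {g : G}
    (hgN : g ∈ normalizer (Q : Set G))
    (L M W₂ W₃ : ℕ)
    (hM : ∀ x ∈ Q, g * x * g⁻¹ ≠ x → ∀ j, 0 < j → j < M → g ^ j * x * (g ^ j)⁻¹ ≠ x)
    (h2 : L ≤ W₂ * M) (h3 : L ≤ W₃ * p) :
    L * Nat.card (PClasses p G) + W₂ * Nat.card ↥(Q ⊓ centralizer ({g} : Set G))
        + W₃ * Nat.card ↥Q
      ≤ L * Nat.card ↥(Q ⊓ centralizer ({g} : Set G)) + W₂ * Nat.card ↥Q
        + W₃ * Nat.card ↥(P : Subgroup G) := by
  classical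
  let D : Subgroup G := Q ⊓ centralizer ({g} : Set G)
  have hDQ : D ≤ Q := inf_le_left
  have : Fintype ↥(P : Subgroup G) := Fintype.ofFinite _
  let w : ↥(P : Subgroup G) → ℕ := fun x =>
    if (x : G) ∈ D then L else if (x : G) ∈ Q then W₂ else W₃
  have hw : ∀ x, L ≤ w x * Nat.card {b // sylowClass P b = sylowClass P x} := by
    intro x
    simp only [w]
    split_ifs with hD hQ
    · refine Nat.le_mul_of_pos_right L (Nat.card_pos_iff.2 ⟨⟨⟨x, rfl⟩⟩, inferInstance⟩)
    · refine h2.trans (Nat.mul_le_mul_left _ (orbit_le_fibre P hQP hgN x hQ M (hM _ hQ ?_)))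
      intro e
      refine hD ⟨hQ, mem_centralizer_singleton_iff.2 ?_⟩
      exact (mul_inv_eq_iff_eq_mul.1 e).symm
    · refine h3.trans (Nat.mul_le_mul_left _ (prime_le_fibre P x fun hc => hQ (hCQ ⟨x.2, fun y hy => ?_⟩)))
      exact congrArg Subtype.val (mem_center_iff.1 hc ⟨y, hQP hy⟩)
  have h := weighted_count (sylowClass P) (sylowClass_surjective P) L w hw
  have hcount : ∀ H : Subgroup G, H ≤ (P : Subgroup G) →
      ∑ x : ↥(P : Subgroup G), (if (x : G) ∈ H then 1 else 0) = Nat.card ↥H := by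
    intro H hH
    rw [← Finset.card_filter, ← Nat.card_congr (subgroupOfEquivOfLe hH).toEquiv,
      Nat.card_eq_fintype_card, Fintype.card_subtype]
    rfl
  show L * Nat.card (PClasses p G) + W₂ * Nat.card ↥D + W₃ * Nat.card ↥Q
    ≤ L * Nat.card ↥D + W₂ * Nat.card ↥Q + W₃ * Nat.card ↥(P : Subgroup G)
  have hsum : ∑ x, w x + W₂ * Nat.card ↥D + W₃ * Nat.card ↥Q
      = L * Nat.card ↥D + W₂ * Nat.card ↥Q + W₃ * Nat.card ↥(P : Subgroup G) := by
    rw [← hcount D (hDQ.trans hQP), ← hcount Q hQP, Nat.card_eq_fintype_card,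
      Fintype.card_eq_sum_ones]
    simp only [Finset.mul_sum, ← Finset.sum_add_distrib]
    refine Finset.sum_congr rfl fun x _ => ?_
    simp only [w]
    by_cases hD : (x : G) ∈ D
    · simp [hD, hDQ hD]
    · by_cases hQ : (x : G) ∈ Q <;> simp [hD, hQ]
  omega

omit [Finite G] in
theorem orbit_two (g : G) (Q : Subgroup G) :
    ∀ x ∈ Q, g * x * g⁻¹ ≠ x → ∀ j, 0 < j → j < 2 → g ^ j * x * (g ^ j)⁻¹ ≠ x := by
  intro x _ hx j hj hj2
  obtain rfl : j = 1 := by omega
  rwa [pow_one]

omit [Finite G] in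
/-- An element fixed by `g ^ j`, `j` prime to the order of `g`, is fixed by `g`. -/
theorem fixed_of_pow_fixed {g x : G} {j : ℕ} (hj : j.Coprime (orderOf g))
    (h : g ^ j * x * (g ^ j)⁻¹ = x) : g * x * g⁻¹ = x := by
  obtain ⟨u, hu⟩ := exists_pow_eq_self_of_coprime hj
  have h1 : g ^ j ∈ centralizer ({x} : Set G) :=
    mem_centralizer_singleton_iff.2 (mul_inv_eq_iff_eq_mul.1 h)
  exact mul_inv_eq_iff_eq_mul.2 (mem_centralizer_singleton_iff.1 (hu ▸ pow_mem h1 u))

omit hp in
/-- An element of order prime to `p` cannot fix exactly an index two subgroup of a 2-group. -/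
theorem index_ne_two [Fact (Nat.Prime 2)] {Q : Subgroup G} (hQ : IsPGroup 2 ↥Q) {g : G}
    (hgN : g ∈ normalizer (Q : Set G)) (hgp : (orderOf g).Coprime 2) :
    2 * Nat.card ↥(Q ⊓ centralizer ({g} : Set G)) ≠ Nat.card ↥Q := by
  intro hcard
  let D : Subgroup G := Q ⊓ centralizer ({g} : Set G)
  have hidx : (D.subgroupOf Q).index = 2 := by
    have h1 : D.relIndex Q * Nat.card ↥D = Nat.card ↥Q := relIndex_mul_card_of_le inf_le_left
    rw [← hcard] at h1
    exact mul_right_cancel₀ Nat.card_pos.ne' h1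
  have hne : D ≠ Q := fun e => by
    rw [show D.subgroupOf Q = ⊤ from subgroupOf_eq_top.2 e.ge, index_top] at hidx
    omega
  obtain ⟨x, hxQ, hxD⟩ := SetLike.exists_of_lt (lt_of_le_of_ne inf_le_left hne : D < Q)
  have hx' : g * x * g⁻¹ ∈ Q := (mem_normalizer_iff.1 hgN x).1 hxQ
  have hd : x⁻¹ * (g * x * g⁻¹) ∈ D := by
    have h1 : (⟨x⁻¹ * (g * x * g⁻¹), mul_mem (inv_mem hxQ) hx'⟩ : ↥Q) ∈ D.subgroupOf Q := by
      rw [show (⟨x⁻¹ * (g * x * g⁻¹), mul_mem (inv_mem hxQ) hx'⟩ : ↥Q)
        = (⟨x, hxQ⟩ : ↥Q)⁻¹ * ⟨g * x * g⁻¹, hx'⟩ from rfl, mul_mem_iff_of_index_two hidx, inv_mem_iff]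
      simp only [mem_subgroupOf]
      refine iff_of_false hxD fun h => hxD ⟨hxQ, ?_⟩
      have h1 := mem_centralizer_singleton_iff.1 h.2
      refine mem_centralizer_singleton_iff.2 ?_
      calc x * g = g⁻¹ * ((g * x * g⁻¹) * g) * g := by group
        _ = g⁻¹ * (g * (g * x * g⁻¹)) * g := by rw [h1]
        _ = g * x := by group
    exact h1
  obtain ⟨d, hdd⟩ : ∃ d, x⁻¹ * (g * x * g⁻¹) = d := ⟨_, rfl⟩
  rw [hdd] at hd
  have hdg : d * g = g * d := mem_centralizer_singleton_iff.1 hd.2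
  have hgx : g * x * g⁻¹ = x * d := by rw [← hdd]; group
  have hpow : ∀ n : ℕ, g ^ n * x * (g ^ n)⁻¹ = x * d ^ n := by
    intro n
    induction n with
    | zero => simp
    | succ n ih =>
        have hc : g * d ^ n * g⁻¹ = d ^ n :=
          mul_inv_eq_iff_eq_mul.2 (Commute.pow_right (show Commute g d from hdg.symm) n).eq
        calc g ^ (n + 1) * x * (g ^ (n + 1))⁻¹ = g * (g ^ n * x * (g ^ n)⁻¹) * g⁻¹ := by
              rw [pow_succ' g n]; group
          _ = g * (x * d ^ n) * g⁻¹ := by rw [ih]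
          _ = (g * x * g⁻¹) * (g * d ^ n * g⁻¹) := by group
          _ = x * d ^ (n + 1) := by rw [hc, hgx, pow_succ', mul_assoc]
  have h1 := hpow (orderOf g)
  rw [pow_orderOf_eq_one, one_mul, inv_one, mul_one, left_eq_mul] at h1
  obtain ⟨i, hi⟩ := IsPGroup.iff_orderOf.1 hQ ⟨d, hd.1⟩
  rw [Subgroup.orderOf_mk] at hi
  have h2 : orderOf d = 1 := by
    refine Nat.eq_one_of_dvd_coprimes (Nat.Coprime.pow_right i hgp) ?_ (hi ▸ dvd_refl _)
    exact orderOf_dvd_of_pow_eq_one h1
  rw [orderOf_eq_one_iff] at h2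
  rw [h2, mul_one] at hgx
  exact hxD ⟨hxQ, mem_centralizer_singleton_iff.2 (mul_inv_eq_iff_eq_mul.1 hgx).symm⟩

omit hp in
/-- For `p = 2`: more classes than half the Sylow order forces a normal 2-complement. -/
theorem hasNormalPComplement_two [Fact (Nat.Prime 2)] (P₀ : Sylow 2 G)
    (h : Nat.card ↥(P₀ : Subgroup G) < 2 * Nat.card (PClasses 2 G)) :
    HasNormalPComplement 2 G := by
  by_contra hn
  obtain ⟨P, Q, hQP, hCQ, g, hgN, hgp, hgC⟩ := exists_fusion_witness hn
  have hsum := count_of_witness P hQP hCQ hgN 6 3 2 3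
    (fun x hx hne j hj hj3 hfix => by
      refine hne (fixed_of_pow_fixed ?_ hfix)
      interval_cases j
      · exact Nat.coprime_one_left _
      · exact hgp.symm) le_rfl le_rfl
  obtain ⟨i, hi0, hi⟩ := fixed_lt (P.isPGroup'.to_le hQP) hgC
  have hi1 := index_ne_two (P.isPGroup'.to_le hQP) hgN hgp
  rw [Nat.card_congr (P₀.equiv P).toEquiv] at h
  have h2i : 2 ≤ i := by
    by_contra h'
    obtain rfl : i = 1 := by omega
    rw [pow_one, mul_comm] at hi
    exact hi1 hi
  have h4 : 4 * Nat.card ↥(Q ⊓ centralizer ({g} : Set G)) ≤ Nat.card ↥Q := by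
    rw [← hi, mul_comm 4]
    exact Nat.mul_le_mul_left _ (calc 4 = 2 ^ 2 := by norm_num
      _ ≤ 2 ^ i := Nat.pow_le_pow_right two_pos h2i)
  have := card_le_of_le hQP
  omega

/-- For odd `p`: more than `(p+1)/(2p)` times the Sylow order forces a normal `p`-complement. -/
theorem hasNormalPComplement_odd (hp2 : p ≠ 2) (P₀ : Sylow p G)
    (h : (p + 1) * Nat.card ↥(P₀ : Subgroup G) < 2 * p * Nat.card (PClasses p G)) :
    HasNormalPComplement p G := by
  by_contra hn
  obtain ⟨P, Q, hQP, hCQ, g, hgN, hgp, hgC⟩ := exists_fusion_witness hn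
  have hsum := count_of_witness P hQP hCQ hgN (2 * p) 2 p 2 (orbit_two g Q)
    (by rw [mul_comm]) le_rfl
  obtain ⟨i, hi0, hi⟩ := fixed_lt (P.isPGroup'.to_le hQP) hgC
  rw [Nat.card_congr (P₀.equiv P).toEquiv] at h
  have hc : p * Nat.card ↥(Q ⊓ centralizer ({g} : Set G)) ≤ Nat.card ↥Q := by
    rw [← hi, mul_comm p]
    exact Nat.mul_le_mul_left _ (Nat.le_self_pow hi0 p)
  have hQle := card_le_of_le hQP
  have h3 : 3 ≤ p := by have := hp.out.two_le; omega
  nlinarith

/-- For a group of odd order: more classes than half the Sylow order forces a normal `p`-complement. -/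
theorem hasNormalPComplement_of_odd_card (hodd : Odd (Nat.card G)) (P₀ : Sylow p G)
    (h : Nat.card ↥(P₀ : Subgroup G) < 2 * Nat.card (PClasses p G)) :
    HasNormalPComplement p G := by
  by_contra hn
  obtain ⟨P, Q, hQP, hCQ, g, hgN, hgp, hgC⟩ := exists_fusion_witness hn
  have hg2 : Nat.Coprime 2 (orderOf g) :=
    (hodd.coprime_two_right.coprime_dvd_left (orderOf_dvd_natCard g)).symm
  obtain ⟨i, hi0, hi⟩ := fixed_lt (P.isPGroup'.to_le hQP) hgC
  rw [Nat.card_congr (P₀.equiv P).toEquiv] at h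
  have hc : p * Nat.card ↥(Q ⊓ centralizer ({g} : Set G)) ≤ Nat.card ↥Q := by
    rw [← hi, mul_comm p]
    exact Nat.mul_le_mul_left _ (Nat.le_self_pow hi0 p)
  have hQle := card_le_of_le hQP
  have hp2 : p ≠ 2 := by
    rintro rfl
    obtain ⟨y, hy, hyne⟩ : ∃ y ∈ Q, y ≠ 1 := by
      by_contra hno
      push Not at hno
      exact hgC fun y hy => by rw [hno y hy, one_mul, mul_one]
    have h2 : 2 ∣ Nat.card ↥(P : Subgroup G) := by
      obtain ⟨j, hj⟩ := IsPGroup.iff_card.1 P.isPGroup'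
      rw [hj]
      refine dvd_pow_self 2 fun hj0 => hyne ?_
      have := card_eq_one.1 (hj.trans (by rw [hj0, pow_zero]) : Nat.card ↥(P : Subgroup G) = 1)
      exact mem_bot.1 (this ▸ hQP hy)
    exact Nat.not_even_iff_odd.2 hodd (even_iff_two_dvd.2 (h2.trans (card_subgroup_dvd_card _)))
  by_cases hp3 : p = 3
  · subst hp3
    have hg3 : Nat.Coprime 3 (orderOf g) := hgp.symm
    have hsum := count_of_witness P hQP hCQ hgN 15 5 3 5
      (fun x hx hne j hj hj5 hfix => by
        refine hne (fixed_of_pow_fixed ?_ hfix)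
        interval_cases j
        · exact Nat.coprime_one_left _
        · exact hg2
        · exact hg3
        · exact Nat.Coprime.pow_left 2 hg2) le_rfl le_rfl
    omega
  · have hp5 : 5 ≤ p := by
      have := hp.out.two_le
      rcases eq_or_ne p 4 with h4 | h4
      · exact absurd (h4 ▸ hp.out) (by norm_num)
      · omega
    have hsum := count_of_witness P hQP hCQ hgN 15 3 5 3
      (fun x hx hne j hj hj3 hfix => by
        refine hne (fixed_of_pow_fixed ?_ hfix)
        interval_cases j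
        · exact Nat.coprime_one_left _
        · exact hg2) le_rfl (by omega)
    have h5c := Nat.mul_le_mul_right (Nat.card ↥(Q ⊓ centralizer ({g} : Set G))) hp5
    omega

/-- The class count of a non-abelian `p`-group: at most centre plus the rest over `p`. -/
theorem card_classes_nonabelian_le (P : Sylow p G) (hP : ¬ IsMulCommutative ↥(P : Subgroup G)) :
    ∃ z : ℕ, p * p * z ≤ Nat.card ↥(P : Subgroup G) ∧
      p * Nat.card (PClasses p G) + z ≤ p * z + Nat.card ↥(P : Subgroup G) := by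
  classical
  refine ⟨Nat.card ↥(center ↥(P : Subgroup G)), ?_, ?_⟩
  · obtain ⟨i, hi⟩ := IsPGroup.index P.isPGroup' (center ↥(P : Subgroup G))
    have hi2 : 2 ≤ i := by
      by_contra hlt
      apply hP
      have hcyc : IsCyclic (↥(P : Subgroup G) ⧸ center ↥(P : Subgroup G)) := by
        rcases (show i = 0 ∨ i = 1 by omega) with rfl | rfl
        · have : Subsingleton (↥(P : Subgroup G) ⧸ center ↥(P : Subgroup G)) :=
            (Nat.card_eq_one_iff_unique.1 (by rw [← index_eq_card, hi, pow_zero])).1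
          exact isCyclic_of_subsingleton
        · exact isCyclic_of_prime_card (by rw [← index_eq_card, hi, pow_one])
      exact (QuotientGroup.mk' (center ↥(P : Subgroup G))).isMulCommutative_of_isCyclic_of_ker_le_center
        (le_of_eq (QuotientGroup.ker_mk' _))
    rw [← card_mul_index (center ↥(P : Subgroup G)), hi, mul_comm _ (p ^ i)]
    refine Nat.mul_le_mul_right _ ?_
    calc p * p = p ^ 2 := (sq p).symm
      _ ≤ p ^ i := Nat.pow_le_pow_right hp.out.pos hi2
  · have : Fintype ↥(P : Subgroup G) := Fintype.ofFinite _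
    let w : ↥(P : Subgroup G) → ℕ := fun x => if x ∈ center ↥(P : Subgroup G) then p else 1
    have h := weighted_count (sylowClass P) (sylowClass_surjective P) p w fun x => by
      simp only [w]
      split_ifs with hx
      · exact Nat.le_mul_of_pos_right p (Nat.card_pos_iff.2 ⟨⟨⟨x, rfl⟩⟩, inferInstance⟩)
      · rw [one_mul]; exact prime_le_fibre P x hx
    have hsum : ∑ x, w x + Nat.card ↥(center ↥(P : Subgroup G))
        = p * Nat.card ↥(center ↥(P : Subgroup G)) + Nat.card ↥(P : Subgroup G) := by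
      have hz : Nat.card ↥(center ↥(P : Subgroup G))
          = ∑ x : ↥(P : Subgroup G), (if x ∈ center ↥(P : Subgroup G) then 1 else 0) := by
        rw [← Finset.card_filter, Nat.card_eq_fintype_card, Fintype.card_subtype]
      rw [hz, Nat.card_eq_fintype_card, Fintype.card_eq_sum_ones, Finset.mul_sum,
        ← Finset.sum_add_distrib, ← Finset.sum_add_distrib]
      refine Finset.sum_congr rfl fun x _ => ?_
      simp only [w]
      split_ifs <;> simp
    omega

/-- Above `(p+1)/(2p)`, or above one half for odd `p`, the Sylow `p`-subgroups are abelian. -/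
theorem sylow_comm_of_half (hp2 : p ≠ 2) (P : Sylow p G)
    (h : Nat.card ↥(P : Subgroup G) < 2 * Nat.card (PClasses p G)) :
    IsMulCommutative ↥(P : Subgroup G) := by
  by_contra hP
  obtain ⟨z, hz, hk⟩ := card_classes_nonabelian_le P hP
  have h3 : 3 ≤ p := by have := hp.out.two_le; omega
  have h1 : 2 * z * p ≤ 2 * z * p * (p - 2) := Nat.le_mul_of_pos_right _ (by omega)
  have h4 := Nat.mul_le_mul_left (p - 2) hz
  obtain ⟨t, rfl⟩ : ∃ t, p = t + 3 := ⟨p - 3, by omega⟩
  simp only [show t + 3 - 2 = t + 1 by omega] at h4 h1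
  nlinarith

end CfsgLib.PiClasses
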